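import Mathlib.AlgebraicGeometry.Normalization
import Mathlib.AlgebraicGeometry.Morphisms.Proper
import Mathlib.AlgebraicGeometry.Geometrically.Connected
import Mathlib.AlgebraicGeometry.Fiber

/-!
# Stein data of a proper morphism to an affine scheme
-/

universe u

open CategoryTheory AlgebraicGeometry

namespace Groth.Agent.Lib.Stein36.Data

/-- The Stein factorization hypothesis: `X → S'` has geometrically connected fibres. -/
abbrev SteinConn : Prop :=
  ∀ {X S : Scheme.{u}} (f : X ⟶ S) [IsProper f], GeometricallyConnected f.toNormalization

/-- A proper morphism to `Spec A` factors as a proper morphism with connected fibres followed by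
`Spec` of an integral ring map. -/
theorem exists_data (conn : SteinConn.{u}) {A : CommRingCat.{u}} {X : Scheme.{u}} (f : X ⟶ Spec A)
    [IsProper f] :
    ∃ (B : CommRingCat.{u}) (ψ : A ⟶ B) (h : X ⟶ Spec B), ψ.hom.IsIntegral ∧ h ≫ Spec.map ψ = f ∧
      IsClosedMap h.base ∧ ∀ n : Spec B, _root_.IsConnected (h.base ⁻¹' {n}) := by
  haveI := conn f
  haveI : IsAffine f.normalization := isAffine_of_isAffineHom f.fromNormalization
  let e := f.normalization.isoSpec
  obtain ⟨ψ, hψ⟩ := Spec.map_surjective (e.inv ≫ f.fromNormalization)
  haveI : IsIntegralHom (Spec.map ψ) := hψ ▸ inferInstance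
  refine ⟨_, ψ, f.toNormalization ≫ e.hom, IsIntegralHom.SpecMap_iff.mp inferInstance, ?_, ?_, ?_⟩
  · rw [hψ, Category.assoc, e.hom_inv_id_assoc, f.toNormalization_fromNormalization]
  · haveI : IsProper (f.toNormalization ≫ f.fromNormalization) := by
      rw [f.toNormalization_fromNormalization]; infer_instance
    haveI : IsProper f.toNormalization := IsProper.of_comp f.toNormalization f.fromNormalization
    exact (f.toNormalization ≫ e.hom).isClosedMap
  · intro n
    let p := e.inv.base n
    haveI : ConnectedSpace (f.toNormalization.fiber p) := inferInstance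
    have h : (f.toNormalization ≫ e.hom).base ⁻¹' {n} =
        Set.range (f.toNormalization.fiberι p).base := by
      rw [Scheme.Hom.range_fiberι]
      ext x
      simp only [Set.mem_preimage, Set.mem_singleton_iff, p]
      constructor
      · rintro rfl
        simp
      · intro hx
        simp only [Scheme.Hom.comp_apply]
        rw [hx]
        simp
    rw [h]
    exact isConnected_range (f.toNormalization.fiberι p).continuous

end Groth.Agent.Lib.Stein36.Data
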