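import Groth.Agent.Lib.Unram.UnibranchNormalization
import Groth.Agent.Lib.PolLaw.Universal
import Mathlib.FieldTheory.PurelyInseparable.Basic

/-!
# Integral extensions of geometrically unibranch domains with radicial fraction field are radicial
-/

universe u

open CategoryTheory AlgebraicGeometry
open Groth.Agent.Lib.Unram.UnibranchNormalization

namespace Groth.Agent.Lib.Stein36.Radicial

theorem eq_of_pow_expChar_eq {A F Ω : Type u} [CommRing A] [Field F] [Field Ω] {i : A →+* F}
    (hi : Function.Injective i) (g : A →+* Ω) (q : ℕ) [hq : ExpChar F q] (n : ℕ) {x y : Ω}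
    (h : x ^ q ^ n = y ^ q ^ n) : x = y := by
  cases hq with
  | zero => simpa using h
  | prime hp =>
    have h0 : (q : A) = 0 := hi (by rw [map_natCast, map_zero]; exact CharP.cast_eq_zero F q)
    haveI : CharP Ω q := (CharP.charP_iff_prime_eq_zero hp).mpr (by
      rw [← map_natCast g, h0, map_zero])
    haveI : ExpChar Ω q := ExpChar.prime hp
    exact iterateFrobenius_inj Ω q n h

theorem universallyInjective {A B : Type u} [CommRing A] [IsDomain A] [CommRing B] [IsDomain B]
    [Algebra A B] (hinj : Function.Injective (algebraMap A B)) [Algebra.IsIntegral A B]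
    (hU : ∀ (p : Ideal A) [p.IsPrime], UniqueLift A p)
    (hone : ∀ σ τ : B →+* AlgebraicClosure (FractionRing B), Function.Injective σ →
      σ.comp (algebraMap A B) = τ.comp (algebraMap A B) → Function.Injective τ → σ = τ) :
    UniversallyInjective (Spec.map (CommRingCat.ofHom (algebraMap A B))) := by
  let F := FractionRing A
  let L := FractionRing B
  haveI : FaithfulSMul A L := by
    rw [faithfulSMul_iff_algebraMap_injective, IsScalarTower.algebraMap_eq A B L]
    exact (IsFractionRing.injective B L).comp hinj
  letI : Algebra F L := FractionRing.liftAlgebra A L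
  haveI : IsScalarTower A F L := FractionRing.isScalarTower_liftAlgebra A L
  have hpi : IsPurelyInseparable F L := by
    rw [isPurelyInseparable_iff_subsingleton_emb]
    refine ⟨fun σ τ => AlgHom.coe_ringHom_injective (IsLocalization.ringHom_ext (nonZeroDivisors B) ?_)⟩
    refine hone _ _ ?_ ?_ ?_
    · exact (σ.toRingHom.injective).comp (IsFractionRing.injective B L)
    · refine RingHom.ext fun a => ?_
      simp only [RingHom.comp_apply]
      rw [← IsScalarTower.algebraMap_apply A B L, IsScalarTower.algebraMap_apply A F L]
      exact (σ.commutes _).trans (τ.commutes _).symm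
    · exact (τ.toRingHom.injective).comp (IsFractionRing.injective B L)
  let D := integralClosure A L
  let j : B →+* D := RingHom.codRestrict (algebraMap B L) D fun b =>
    (Algebra.IsIntegral.isIntegral (R := A) b).map (IsScalarTower.toAlgHom A B L)
  let k : integralClosure A F →+* D := RingHom.codRestrict
    ((algebraMap F L).comp (integralClosure A F).val.toRingHom) D
    fun c => c.2.map (IsScalarTower.toAlgHom A F L)
  have hjinj : Function.Injective j := fun x y h =>
    IsFractionRing.injective B L (congrArg Subtype.val h)
  have hji : j.comp (algebraMap A B) = algebraMap A D := RingHom.ext fun a => Subtype.ext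
    (IsScalarTower.algebraMap_apply A B L a).symm
  have hki : k.comp (algebraMap A (integralClosure A F)) = algebraMap A D :=
    RingHom.ext fun a => Subtype.ext (IsScalarTower.algebraMap_apply A F L a).symm
  have hjint : j.IsIntegral := by
    refine RingHom.IsIntegral.tower_top (algebraMap A B) j ?_
    rw [hji]
    exact algebraMap_isIntegral_iff.mpr inferInstance
  have hC := ((tfae_universallyInjective _).out 0 1 rfl rfl).mp
    (universallyInjective_of_uniqueLift A hU)
  refine ((tfae_universallyInjective _).out 0 1 rfl rfl).mpr ?_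
  intro K _ g₁ g₂ hg
  obtain ⟨φ, rfl⟩ := Spec.map_surjective g₁
  obtain ⟨ψ, rfl⟩ := Spec.map_surjective g₂
  have hA : φ.hom.comp (algebraMap A B) = ψ.hom.comp (algebraMap A B) :=
    congrArg CommRingCat.Hom.hom
      (Spec.map_inj.mp ((Spec.map_comp _ φ).trans (hg.trans (Spec.map_comp _ ψ).symm)))
  let Ω := AlgebraicClosure K
  let ι : K →+* Ω := algebraMap K Ω
  obtain ⟨Φ, hΦ⟩ := PolLaw.Universal.exists_extension j hjinj hjint (ι.comp φ.hom)
  obtain ⟨Ψ, hΨ⟩ := PolLaw.Universal.exists_extension j hjinj hjint (ι.comp ψ.hom)
  have hk : Φ.comp k = Ψ.comp k := by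
    have h := @hC Ω _ (Spec.map (CommRingCat.ofHom (Φ.comp k))) (Spec.map (CommRingCat.ofHom (Ψ.comp k))) (by
      have e : (Φ.comp k).comp (algebraMap A (integralClosure A F)) =
          (Ψ.comp k).comp (algebraMap A (integralClosure A F)) := by
        refine RingHom.ext fun a => ?_
        change Φ (k (algebraMap A _ a)) = Ψ (k (algebraMap A _ a))
        have ek : k (algebraMap A (integralClosure A F) a) = j (algebraMap A B a) :=
          (RingHom.congr_fun hki a).trans (RingHom.congr_fun hji a).symm
        simp only [ek]
        exact ((RingHom.congr_fun hΦ _).trans (congrArg ι (RingHom.congr_fun hA a))).trans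
          (RingHom.congr_fun hΨ _).symm
      simp only [← Spec.map_comp, ← CommRingCat.ofHom_comp]
      exact congrArg (fun r => Spec.map (CommRingCat.ofHom r)) e)
    exact congrArg CommRingCat.Hom.hom (Spec.map_inj.mp h)
  refine congrArg Spec.map (CommRingCat.hom_ext (RingHom.ext fun b => ι.injective ?_))
  let q := ringExpChar F
  obtain ⟨n, z, hz⟩ := (isPurelyInseparable_iff_pow_mem F q).mp hpi (algebraMap B L b)
  have hzint : IsIntegral A z := by
    rw [← isIntegral_algebraMap_iff (B := L) (algebraMap F L).injective, hz]
    exact ((Algebra.IsIntegral.isIntegral (R := A) b).map (IsScalarTower.toAlgHom A B L)).pow _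
  have hjk : j b ^ q ^ n = k ⟨z, hzint⟩ := Subtype.ext hz.symm
  have h1 : Φ (j b) ^ q ^ n = Ψ (j b) ^ q ^ n := by
    refine ((map_pow Φ _ _).symm.trans ?_).trans (map_pow Ψ _ _)
    rw [hjk]
    exact RingHom.congr_fun hk _
  have h2 : Φ (j b) = Ψ (j b) :=
    eq_of_pow_expChar_eq (FaithfulSMul.algebraMap_injective A F) ((ι.comp φ.hom).comp (algebraMap A B))
      q n h1
  rw [← RingHom.comp_apply Φ j, hΦ, ← RingHom.comp_apply Ψ j, hΨ] at h2
  exact h2

end Groth.Agent.Lib.Stein36.Radicial
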