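import Groth.Agent.Lib.Stein36.Data
import Groth.Agent.Lib.Stein36.Radicial
import Groth.Agent.Lib.Unram.UnibranchBirational
import Groth.Agent.Lib.EtSite.FieldExt
import Groth.Agent.Lib.EtSite.ZeroDim

/-!
# Proper morphisms onto geometrically unibranch bases with connected generic fibre
-/

universe u

open CategoryTheory CategoryTheory.Limits AlgebraicGeometry

namespace Groth.Agent.Lib.Stein36.Unibranch

/-- A connected scheme integral over a field is a point. -/
theorem subsingleton_of_isIntegralHom {Ω : Type u} [Field Ω] {P : Scheme.{u}}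
    (h : P ⟶ Spec (CommRingCat.of Ω)) [IsIntegralHom h] [ConnectedSpace P] : Subsingleton P := by
  have : IsAffine P := isAffine_of_isAffineHom h
  obtain ⟨κ, hκ⟩ := Spec.map_surjective (P.isoSpec.inv ≫ h)
  have hint : κ.hom.IsIntegral := IsIntegralHom.SpecMap_iff.1 (hκ ▸ inferInstance)
  algebraize [κ.hom]
  haveI : Ring.KrullDimLE 0 Γ(P, ⊤) := Ring.krullDimLE_zero_iff.mpr fun q hq =>
    Ideal.isMaximal_of_isIntegral_of_isMaximal_comap (R := Ω) q (by
      rw [(Ideal.eq_bot_or_top (q.comap (algebraMap Ω Γ(P, ⊤)))).resolve_right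
        (Ideal.comap_ne_top _ hq.ne_top)]
      exact Ideal.bot_isMaximal)
  haveI : ConnectedSpace (PrimeSpectrum Γ(P, ⊤)) :=
    P.isoSpec.hom.homeomorph.surjective.connectedSpace P.isoSpec.hom.homeomorph.continuous
  have hsub : Subsingleton (PrimeSpectrum Γ(P, ⊤)) := ⟨fun z₁ z₂ => by
    by_contra hne
    have hm₂ := Ring.krullDimLE_zero_iff.mp ‹_› z₂.asIdeal z₂.isPrime
    obtain ⟨f, hf₂, hf₁⟩ := SetLike.not_le_iff_exists.mp fun hle =>
      hne (PrimeSpectrum.ext (hm₂.eq_of_le z₁.isPrime.ne_top hle).symm)
    obtain ⟨e, he, hfe, hq⟩ := EtSite.ZeroDim.exists_idempotent f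
    have hclopen : IsClopen ((PrimeSpectrum.basicOpen e : TopologicalSpace.Opens (PrimeSpectrum Γ(P, ⊤))) :
        Set (PrimeSpectrum Γ(P, ⊤))) := PrimeSpectrum.isClopen_iff.mpr ⟨e, he, rfl⟩
    rcases isClopen_iff.mp hclopen with h0 | h1
    · exact (Set.eq_empty_iff_forall_notMem.mp h0) z₁ (hq _ z₁.isPrime hf₁)
    · exact (Set.eq_univ_iff_forall.mp h1 z₂) (z₂.asIdeal.mem_of_dvd hfe hf₂)⟩
  haveI : Subsingleton ↥(Spec Γ(P, ⊤)) := hsub
  exact P.isoSpec.hom.homeomorph.injective.subsingleton

theorem geometricallyConnected (conn : Data.SteinConn.{u}) {X S : Scheme.{u}} (f : X ⟶ S)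
    [IsProper f] [IsDominant f] [IsIntegral X] [IsIntegral S]
    (hS : ∀ s : S, CAlg2.IsGeomUnibranch (S.presheaf.stalk s))
    (hη : GeometricallyConnected (f.fiberToSpecResidueField (genericPoint S))) :
    GeometricallyConnected f := by
  let N := f.normalization
  let h : X ⟶ N := f.toNormalization
  let q : N ⟶ S := f.fromNormalization
  haveI : GeometricallyConnected h := conn f
  have hfac : h ≫ q = f := f.toNormalization_fromNormalization
  haveI : IsDominant q := by
    haveI : IsDominant (h ≫ q) := hfac ▸ inferInstance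
    exact IsDominant.of_comp h q
  have hqs : Function.Surjective q := by
    rw [← Set.range_eq_univ]
    exact (q.isClosedMap.isClosed_range.closure_eq).symm.trans q.denseRange.closure_range
  -- base change to a field point
  have hP : ∀ (K : Type u) [Field K] (x : Spec (CommRingCat.of K) ⟶ S),
      (ConnectedSpace ↥(pullback f x) → ConnectedSpace ↥(pullback q x)) ∧
      (Subsingleton ↥(pullback q x) → ConnectedSpace ↥(pullback f x)) := by
    intro K _ x
    let e : pullback h (pullback.fst q x) ≅ pullback f x :=
      pullbackRightPullbackFstIso q x h ≪≫ pullback.congrHom hfac rfl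
    constructor
    · intro hc
      haveI : ConnectedSpace ↥(pullback h (pullback.fst q x)) :=
        e.hom.homeomorph.connectedSpace_iff.mpr hc
      exact (pullback.snd h (pullback.fst q x)).surjective.connectedSpace
        (pullback.snd h (pullback.fst q x)).continuous
    · intro hsub
      haveI : Nonempty ↥(pullback q x) := by
        haveI : Surjective q := ⟨hqs⟩
        obtain ⟨z, -⟩ := (pullback.snd q x).surjective default
        exact ⟨z⟩
      exact e.hom.homeomorph.connectedSpace_iff.mp
        (GeometricallyConnected.connectedSpace_of_subsingleton (f := pullback.snd h (pullback.fst q x)))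
  haveI : UniversallyInjective q := by
    rw [IsZariskiLocalAtTarget.iff_of_iSup_eq_top (P := @UniversallyInjective) _
      (iSup_affineOpens_eq_top S)]
    rintro ⟨V, hV'⟩
    have hV : IsAffineOpen V := hV'
    haveI := UniversallyInjective.respectsIso.{u}
    change UniversallyInjective (q ∣_ V)
    by_cases hne : IsEmpty (q ⁻¹ᵁ V).toScheme
    · exact ((tfae_universallyInjective _).out 0 2 rfl rfl).mpr
        ⟨fun a => isEmptyElim a, fun a => isEmptyElim a⟩
    rw [not_isEmpty_iff] at hne
    obtain ⟨z⟩ := hne
    let W := q ⁻¹ᵁ V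
    have hW : IsAffineOpen W := hV.preimage q
    haveI : Nonempty W := ⟨⟨z.1, z.2⟩⟩
    haveI : Nonempty V := ⟨⟨q z.1, z.2⟩⟩
    let A := Γ(S, V)
    let B := Γ(N, W)
    letI : Algebra A B := (q.app V).hom.toAlgebra
    haveI : Algebra.IsIntegral A B := ⟨IsIntegralHom.isIntegral_app (f := q) V hV⟩
    have hsq : Spec.map (q.app V) ≫ hV.fromSpec = hW.fromSpec ≫ q := by
      rw [← Scheme.Hom.appLE_eq_app]
      exact IsAffineOpen.SpecMap_appLE_fromSpec q hV hW le_rfl
    -- compare the restriction with `Spec` of the ring map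
    suffices key : UniversallyInjective (Spec.map (q.app V)) by
      refine (MorphismProperty.arrow_mk_iso_iff @UniversallyInjective
        (Arrow.isoMk hW.isoSpec hV.isoSpec ?_)).mpr key
      change hW.isoSpec.hom ≫ Spec.map (q.app V) = (q ∣_ V) ≫ hV.isoSpec.hom
      rw [← cancel_mono hV.fromSpec, Category.assoc, hsq, IsAffineOpen.isoSpec_hom_fromSpec_assoc,
        Category.assoc, IsAffineOpen.isoSpec_hom_fromSpec]
      exact (morphismRestrict_ι q V).symm
    have hinj : Function.Injective (algebraMap A B) := by
      rw [injective_iff_map_eq_zero]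
      intro a ha
      refine (basicOpen_eq_bot_iff a).mp (TopologicalSpace.Opens.ext
        (Set.eq_empty_iff_forall_notMem.mpr fun s hs => ?_))
      obtain ⟨n, rfl⟩ := hqs s
      have h1 : n ∈ q ⁻¹ᵁ S.basicOpen a := hs
      rw [Scheme.preimage_basicOpen, show q.app V a = 0 from ha, Scheme.basicOpen_zero] at h1
      exact h1
    refine Radicial.universallyInjective hinj (fun p hp => ?_) ?_
    · obtain ⟨s, hs, rfl⟩ := Unram.UnibranchBirational.exists_point hV p
      exact (Unram.UnibranchNormalization.isGeomUnibranch_iff _ _).mp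
        ((Unram.UnibranchBirational.isGeomUnibranch_stalk_iff hV hs).mp (hS s))
    intro σ τ hσ heq hτ
    let Ω := AlgebraicClosure (FractionRing B)
    let gσ : Spec (CommRingCat.of Ω) ⟶ N := Spec.map (CommRingCat.ofHom σ) ≫ hW.fromSpec
    let gτ : Spec (CommRingCat.of Ω) ⟶ N := Spec.map (CommRingCat.ofHom τ) ≫ hW.fromSpec
    let x : Spec (CommRingCat.of Ω) ⟶ S := gσ ≫ q
    have hx : gτ ≫ q = x := by
      simp only [x, gσ, gτ, Category.assoc, ← hsq, ← Spec.map_comp_assoc]
      congr 2
      exact CommRingCat.hom_ext heq.symm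
    have hgen : x (IsLocalRing.closedPoint Ω) = genericPoint S := by
      have h1 : x = Spec.map (q.app V ≫ CommRingCat.ofHom σ) ≫ hV.fromSpec := by
        simp only [x, gσ, Category.assoc, ← hsq, Spec.map_comp]
      rw [h1]
      change hV.fromSpec (Spec.map (q.app V ≫ CommRingCat.ofHom σ) (IsLocalRing.closedPoint Ω)) = _
      rw [← genericPoint_eq_of_isOpenImmersion hV.fromSpec,
        genericPoint_eq_bot_of_affine]
      congr 1
      refine PrimeSpectrum.ext ?_
      change Ideal.comap (σ.comp (algebraMap A B)) (IsLocalRing.maximalIdeal Ω) = ⊥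
      rw [IsLocalRing.maximalIdeal_eq_bot, ← RingHom.ker_eq_comap_bot]
      exact (RingHom.injective_iff_ker_eq_bot _).mp (hσ.comp hinj)
    haveI : ConnectedSpace ↥(pullback f x) := by
      haveI := hη
      have hx' := Scheme.descResidueField_stalkClosedPointTo_fromSpecResidueField Ω S x
      generalize Spec.map (Scheme.descResidueField (Scheme.stalkClosedPointTo x)) = x' at hx'
      revert x'
      rw [hgen]
      intro x' hx'
      rw [show pullback f x = pullback f (x' ≫ S.fromSpecResidueField (genericPoint S)) from by rw [hx']]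
      have : ConnectedSpace ↥(pullback (f.fiberToSpecResidueField (genericPoint S)) x') :=
        hη.geometrically_connectedSpace _ _ _ (IsPullback.of_hasPullback _ _)
      exact (pullbackLeftPullbackSndIso f (S.fromSpecResidueField (genericPoint S)) x').hom.homeomorph.connectedSpace_iff.mp this
    haveI : ConnectedSpace ↥(pullback q x) := (hP Ω x).1 inferInstance
    haveI : Subsingleton ↥(pullback q x) := subsingleton_of_isIntegralHom (pullback.snd q x)
    let sσ : Spec (CommRingCat.of Ω) ⟶ pullback q x := pullback.lift gσ (𝟙 _) (Category.id_comp _).symm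
    let sτ : Spec (CommRingCat.of Ω) ⟶ pullback q x :=
      pullback.lift gτ (𝟙 _) (hx.trans (Category.id_comp _).symm)
    have hs : sτ = (sτ ≫ pullback.snd q x) ≫ sσ :=
      EtSite.FieldExt.eq_comp_section (pullback.lift_snd _ _ _) sτ (Subsingleton.elim _ _)
    rw [pullback.lift_snd, Category.id_comp] at hs
    have hg : gσ = gτ := by
      have := congrArg (· ≫ pullback.fst q x) hs
      exact (pullback.lift_fst _ _ _).symm.trans (this.symm.trans (pullback.lift_fst _ _ _))
    exact congrArg CommRingCat.Hom.hom (Spec.map_injective ((cancel_mono hW.fromSpec).mp hg))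
  refine ⟨geometrically_iff_of_isClosedUnderIsomorphisms.mpr fun K _ x => ?_⟩
  haveI : UniversallyInjective (pullback.snd q x) :=
    UniversallyInjective.isStableUnderBaseChange.of_isPullback (IsPullback.of_hasPullback q x) inferInstance
  exact (hP K x).2 ⟨fun a b => (pullback.snd q x).injective (Subsingleton.elim _ _)⟩

end Groth.Agent.Lib.Stein36.Unibranch
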