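import Groth.Agent.Lib.Stein36.Data
import Mathlib.AlgebraicGeometry.Morphisms.QuasiCompact

/-!
# Idempotents of fibres of proper morphisms extend to neighbourhoods
-/

universe u

open CategoryTheory AlgebraicGeometry Opposite TopologicalSpace

namespace Groth.Agent.Lib.Stein36.Idem

/-- The polynomial `1 - (1 - X^N)^N` sends `e + nilpotent` to `e`. -/
theorem exists_poly_eq {R : Type u} [CommRing R] {e t : R} (he : IsIdempotentElem e)
    (ht : IsNilpotent (t - e)) : ∃ N : ℕ, 1 - (1 - t ^ N) ^ N = e := by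
  obtain ⟨N, hN⟩ := ht
  refine ⟨N + 1, ?_⟩
  have hN' : (t - e) ^ (N + 1) = 0 := by rw [pow_succ, hN, zero_mul]
  have hle : (1 - e) ^ (N + 1) = 1 - e := he.one_sub.pow_succ_eq N
  have hee : e ^ (N + 1) = e := he.pow_succ_eq N
  -- outside `e`
  have h1 : (1 - e) * t ^ (N + 1) = 0 := by
    have : ((1 - e) * t) ^ (N + 1) = ((1 - e) * (t - e)) ^ (N + 1) := by
      congr 1
      linear_combination he.eq * (-1 : R)
    rw [mul_pow, mul_pow, hle, hN', mul_zero] at this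
    exact this
  -- on `e`
  have h2 : e * (1 - t ^ (N + 1)) ^ (N + 1) = 0 := by
    obtain ⟨c, hc⟩ := sub_dvd_pow_sub_pow t e (N + 1)
    rw [hee] at hc
    have h3 : e * (1 - t ^ (N + 1)) = e * (t - e) * (-c) := by
      linear_combination e * hc * (-1 : R) - he.eq
    have := congrArg (· ^ (N + 1)) h3
    simp only [mul_pow, hee, hN', mul_zero, zero_mul] at this
    exact this
  have h4 : (1 - e) * (1 - t ^ (N + 1)) ^ (N + 1) = 1 - e := by
    have h5 : (1 - e) * (1 - t ^ (N + 1)) = 1 - e := by rw [mul_sub, mul_one, h1, sub_zero]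
    have := congrArg (· ^ (N + 1)) h5
    simp only [mul_pow, hle] at this
    exact this
  linear_combination (-1 : R) * h2 - h4

theorem exists_section (conn : Data.SteinConn.{u}) {X S : Scheme.{u}} (f : X ⟶ S) [IsProper f]
    (s : S) (e : (f.fiber s).presheaf.obj (op ⊤)) (he : IsIdempotentElem e) :
    ∃ (V : S.Opens) (_ : s ∈ V) (t : X.presheaf.obj (op (f ⁻¹ᵁ V))),
      ((f.fiberι s).app (f ⁻¹ᵁ V)).hom t =
        ((f.fiber s).presheaf.map
          (homOfLE (le_top : (f.fiberι s) ⁻¹ᵁ (f ⁻¹ᵁ V) ≤ ⊤)).op).hom e := by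
  obtain ⟨V, hV, hsV, -⟩ :=
    exists_isAffineOpen_mem_and_subset (X := S) (x := s) (U := ⊤) trivial
  let U := f ⁻¹ᵁ V
  let g : U.toScheme ⟶ Spec Γ(S, V) := (f ∣_ V) ≫ hV.isoSpec.hom
  obtain ⟨B, ψ, h, hψ, hfac, hcl, hconn⟩ := Data.exists_data conn g
  let φ : B →+* Γ(X, U) := (U.topIso.hom.hom.comp h.appTop.hom).comp (Scheme.ΓSpecIso B).inv.hom
  have hφ : ∀ (u : U.toScheme) (b : B), u.1 ∈ X.basicOpen (φ b) ↔ b ∉ (h u).asIdeal := by
    intro u b
    have h1 : u ∈ U.toScheme.basicOpen (h.appTop ((Scheme.ΓSpecIso B).inv b)) ↔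
        b ∉ (h u).asIdeal := by
      rw [← Scheme.preimage_basicOpen_top, basicOpen_eq_of_affine]
      rfl
    refine Iff.trans ?_ h1
    refine Iff.trans ?_ Scheme.Opens.mem_basicOpen_toScheme.symm
    change u.1 ∈ X.basicOpen (U.topIso.hom (h.appTop ((Scheme.ΓSpecIso B).inv b))) ↔ _
    exact iff_of_eq (congrArg (u.1 ∈ ·) (Scheme.basicOpen_res_eq X _ (eqToHom U.ι_image_top.symm).op))
  have hg : ∀ u : U.toScheme, hV.fromSpec (g u) = f u.1 := by
    intro u
    have : g ≫ hV.fromSpec = U.ι ≫ f := by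
      simp only [g, Category.assoc, IsAffineOpen.isoSpec_hom_fromSpec]
      exact morphismRestrict_ι f V
    exact congr($this u)
  have hga : ∀ (u : U.toScheme) (a : Γ(S, V)),
      f u.1 ∈ S.basicOpen a ↔ ψ a ∉ (h u).asIdeal := by
    intro u a
    have h1 : g u ∈ PrimeSpectrum.basicOpen a ↔ ψ a ∉ (h u).asIdeal := by
      rw [← hfac]; rfl
    rw [← hg u, ← h1, ← hV.fromSpec_preimage_basicOpen a]
    rfl
  -- the clopen decomposition of the fibre
  let ι := f.fiberι s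
  let C : Set (f.fiber s) := (f.fiber s).basicOpen e
  have hev : ∀ y, (f.fiber s).Γevaluation y e = 0 ∨ (f.fiber s).Γevaluation y e = 1 :=
    fun y => IsIdempotentElem.iff_eq_zero_or_one.mp (he.map _)
  have hC : Cᶜ = ((f.fiber s).basicOpen (1 - e) : Set (f.fiber s)) := by
    ext y
    rw [Set.mem_compl_iff, SetLike.mem_coe, SetLike.mem_coe,
      ← Scheme.evaluation_ne_zero_iff_mem_basicOpen (f.fiber s) y (Opens.mem_top y),
      ← Scheme.evaluation_ne_zero_iff_mem_basicOpen (f.fiber s) y (Opens.mem_top y), map_sub, map_one]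
    rcases hev y with h1 | h1 <;> dsimp only [Scheme.Γevaluation] at h1 <;> rw [h1] <;> simp
  have hCc : IsClosed C := by
    rw [← isOpen_compl_iff, hC]; exact ((f.fiber s).basicOpen (1 - e)).2
  have hC'c : IsClosed Cᶜ := ((f.fiber s).basicOpen e).2.isClosed_compl
  obtain ⟨K, hK, hKC⟩ := ι.isEmbedding.isInducing.isClosed_iff.mp hCc
  obtain ⟨K', hK', hKC'⟩ := ι.isEmbedding.isInducing.isClosed_iff.mp hC'c
  have hιs : ∀ u : U.toScheme, f u.1 = s → ∃ y, ι y = u.1 := fun u hu => by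
    have : u.1 ∈ f ⁻¹' {s} := hu
    rwa [← Scheme.Hom.range_fiberι] at this
  let T : Set (Spec B) := h.base '' {u | u.1 ∈ ι.base '' C}
  let T' : Set (Spec B) := h.base '' {u | u.1 ∈ ι.base '' Cᶜ}
  let s' : Spec Γ(S, V) := hV.primeIdealOf ⟨s, hsV⟩
  have hs' : ∀ u : U.toScheme, g u = s' ↔ f u.1 = s := fun u => by
    rw [← hg u, ← hV.fromSpec.isOpenEmbedding.injective.eq_iff, hV.fromSpec_primeIdealOf]
  have hZ : ∀ n : Spec B, n ∈ closure T → n ∈ closure T' → PrimeSpectrum.comap ψ.hom n ≠ s' := by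
    intro n h1 h2 hn
    have hcl' : ∀ (L : Set X), IsClosed L → IsClosed (h.base '' (U.ι.base ⁻¹' L)) :=
      fun L hL => hcl _ (hL.preimage U.ι.continuous)
    have hT : closure T ⊆ h.base '' (U.ι.base ⁻¹' K) := closure_minimal (Set.image_mono (by
      rintro u ⟨y, hy, hyu⟩
      change u.1 ∈ K
      rw [← hyu]
      exact (Set.ext_iff.mp hKC y).mpr hy)) (hcl' K hK)
    have hT' : closure T' ⊆ h.base '' (U.ι.base ⁻¹' K') := closure_minimal (Set.image_mono (by
      rintro u ⟨y, hy, hyu⟩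
      change u.1 ∈ K'
      rw [← hyu]
      exact (Set.ext_iff.mp hKC' y).mpr hy)) (hcl' K' hK')
    have hfib : ∀ u, h u = n → ∃ y, ι y = u.1 := fun u hu => hιs u ((hs' u).mp (by
      rw [← hfac]; exact (congrArg (PrimeSpectrum.comap ψ.hom) hu).trans hn))
    obtain ⟨u, hu, hun⟩ := hT h1
    obtain ⟨u', hu', hun'⟩ := hT' h2
    obtain ⟨v, hv, hvK, hvK'⟩ := isPreconnected_closed_iff.mp (hconn n).isPreconnected
      (U.ι.base ⁻¹' K) (U.ι.base ⁻¹' K') (hK.preimage U.ι.continuous) (hK'.preimage U.ι.continuous)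
      (fun v hv => by
        obtain ⟨y, hy⟩ := hfib v hv
        by_cases hyC : y ∈ C
        · left; change v.1 ∈ K; rw [← hy]; exact (Set.ext_iff.mp hKC y).mpr hyC
        · right; change v.1 ∈ K'; rw [← hy]; exact (Set.ext_iff.mp hKC' y).mpr hyC)
      ⟨u, hun, hu⟩ ⟨u', hun', hu'⟩
    obtain ⟨y, hy⟩ := hfib v hv
    have h3 : y ∈ C := by rw [← hKC]; change ι y ∈ K; rw [hy]; exact hvK
    have h4 : y ∈ Cᶜ := by rw [← hKC']; change ι y ∈ K'; rw [hy]; exact hvK'
    exact h4 h3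
  let I : Ideal B := PrimeSpectrum.vanishingIdeal T
  let I' : Ideal B := PrimeSpectrum.vanishingIdeal T'
  have hclosed : IsClosed (PrimeSpectrum.comap ψ.hom '' (PrimeSpectrum.zeroLocus ((I' ⊔ I : Ideal B) : Set B))) :=
    PrimeSpectrum.isClosedMap_comap_of_isIntegral ψ.hom hψ _ (PrimeSpectrum.isClosed_zeroLocus _)
  have hs'Z : s' ∉ PrimeSpectrum.comap ψ.hom '' (PrimeSpectrum.zeroLocus ((I' ⊔ I : Ideal B) : Set B)) := by
    rintro ⟨n, hn, hns⟩
    rw [PrimeSpectrum.zeroLocus_sup] at hn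
    exact hZ n ((PrimeSpectrum.zeroLocus_vanishingIdeal_eq_closure T).le hn.2)
      ((PrimeSpectrum.zeroLocus_vanishingIdeal_eq_closure T').le hn.1) hns
  obtain ⟨_, ⟨a, rfl⟩, has, hsub⟩ :=
    PrimeSpectrum.isTopologicalBasis_basic_opens.exists_subset_of_mem_open hs'Z hclosed.isOpen_compl
  have hrad : ψ a ∈ (I' ⊔ I).radical := by
    rw [← PrimeSpectrum.vanishingIdeal_zeroLocus_eq_radical, PrimeSpectrum.mem_vanishingIdeal]
    intro n hn
    by_contra h1
    exact hsub (show PrimeSpectrum.comap ψ.hom n ∈ PrimeSpectrum.basicOpen a from h1) ⟨n, hn, rfl⟩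
  obtain ⟨m, hm⟩ := hrad
  obtain ⟨i₀, hi₀, i₁, hi₁, hsum⟩ := Submodule.mem_sup.mp hm
  have hsa : s ∈ S.basicOpen a := by
    have hs : hV.fromSpec s' = s := hV.fromSpec_primeIdealOf ⟨s, hsV⟩
    rw [← hs]
    change s' ∈ hV.fromSpec ⁻¹ᵁ S.basicOpen a
    rw [hV.fromSpec_preimage_basicOpen]
    exact has
  refine ⟨S.basicOpen a, hsa, ?_⟩
  let U' := f ⁻¹ᵁ S.basicOpen a
  have hU' : U' ≤ U := fun x hx => S.basicOpen_le a hx
  let res : Γ(X, U) →+* Γ(X, U') := (X.presheaf.map (homOfLE hU').op).hom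
  let w : B := (ψ a) ^ m
  have hw : IsUnit (res (φ w)) := by
    have hle : U' ≤ X.basicOpen (φ w) := fun x hx => (hφ ⟨x, hU' hx⟩ w).mpr fun h1 =>
      (hga ⟨x, hU' hx⟩ a).mp hx ((h ⟨x, hU' hx⟩).isPrime.mem_of_pow_mem m h1)
    have h1 := (X.toRingedSpace.isUnit_res_basicOpen (φ w)).map (X.presheaf.map (homOfLE hle).op).hom
    have h2 : X.presheaf.map (homOfLE (X.basicOpen_le (φ w))).op ≫
        X.presheaf.map (homOfLE hle).op = X.presheaf.map (homOfLE hU').op := by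
      rw [← Functor.map_comp]; rfl
    change IsUnit ((X.presheaf.map (homOfLE hU').op).hom (φ w))
    rw [← h2]
    exact h1
  let t₀ : Γ(X, U') := res (φ i₀) * hw.unit⁻¹
  let R := Γ(f.fiber s, ι ⁻¹ᵁ U')
  let e' : R := (f.fiber s).presheaf.map (homOfLE (le_top : ι ⁻¹ᵁ U' ≤ ⊤)).op e
  have hnil : IsNilpotent (ι.app U' t₀ - e') := by
    have hcpt : IsCompact ((ι ⁻¹ᵁ U' : (f.fiber s).Opens) : Set (f.fiber s)) := by
      have : ι ⁻¹ᵁ U' = ⊤ := by
        refine top_unique fun y _ => ?_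
        change f (ι y) ∈ S.basicOpen a
        have : ι y ∈ f ⁻¹' {s} := by rw [← Scheme.Hom.range_fiberι]; exact ⟨y, rfl⟩
        rw [show f (ι y) = s from this]
        exact hsa
      rw [this]
      exact CompactSpace.isCompact_univ
    rw [Scheme.isNilpotent_iff_basicOpen_eq_bot_of_isCompact hcpt,
      Scheme.basicOpen_eq_bot_iff_forall_evaluation_eq_zero]
    rintro ⟨y, hy⟩
    let ev := ((f.fiber s).evaluation (ι ⁻¹ᵁ U') y hy).hom
    let η := (ev.comp (ι.app U').hom).comp (res.comp φ)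
    let u : U.toScheme := ⟨ι y, hU' hy⟩
    have hη : ∀ b, η b = 0 ↔ b ∈ (h u).asIdeal := by
      intro b
      rw [show η b = ev (ι.app U' (res (φ b))) from rfl,
        Scheme.evaluation_eq_zero_iff_notMem_basicOpen, ← Scheme.preimage_basicOpen]
      change ι y ∉ X.basicOpen (res (φ b)) ↔ _
      rw [show X.basicOpen (res (φ b)) = U' ⊓ X.basicOpen (φ b) from X.basicOpen_res _ _]
      have : ι y ∈ X.basicOpen (φ b) ↔ b ∉ (h u).asIdeal := hφ u b
      constructor
      · intro h1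
        by_contra h2
        exact h1 ⟨hy, this.mpr h2⟩
      · exact fun h1 h2 => this.mp h2.2 h1
    have hηw : η w ≠ 0 := fun h1 =>
      ((hga u a).mp hy) ((h u).isPrime.mem_of_pow_mem m ((hη w).mp h1))
    have ht : ev (ι.app U' t₀) * η w = η i₀ := by
      change ev (ι.app U' t₀) * ev (ι.app U' (res (φ w))) = ev (ι.app U' (res (φ i₀)))
      rw [← map_mul ev, ← map_mul, mul_assoc, IsUnit.val_inv_mul, mul_one]
    have hval : ev e' = (f.fiber s).Γevaluation y e := by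
      change ((f.fiber s).presheaf.map _ ≫ (f.fiber s).evaluation _ y hy) e = _
      rw [Scheme.evaluation, ← Category.assoc, TopCat.Presheaf.germ_res]
      rfl
    change ev (ι.app U' t₀ - e') = 0
    rw [map_sub, sub_eq_zero, hval]
    by_cases hyC : y ∈ C
    · have h1 : η i₁ = 0 := (hη i₁).mpr
        ((PrimeSpectrum.mem_vanishingIdeal _ _).mp hi₁ (h u) ⟨u, ⟨y, hyC, rfl⟩, rfl⟩)
      have h2 : η i₀ = η w := by
        rw [show w = i₀ + i₁ from hsum.symm, map_add, h1, add_zero]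
      rw [(hev y).resolve_left ((Scheme.evaluation_ne_zero_iff_mem_basicOpen  (f.fiber s) y (Opens.mem_top y) e).mpr hyC)]
      rw [h2] at ht
      exact mul_eq_right₀ hηw |>.mp ht
    · have h1 : η i₀ = 0 := (hη i₀).mpr
        ((PrimeSpectrum.mem_vanishingIdeal _ _).mp hi₀ (h u) ⟨u, ⟨y, hyC, rfl⟩, rfl⟩)
      rw [(Scheme.evaluation_eq_zero_iff_notMem_basicOpen  (f.fiber s) y (Opens.mem_top y) e).mpr hyC]
      rw [h1] at ht
      exact (mul_eq_zero.mp ht).resolve_right hηw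
  obtain ⟨N, hN⟩ := exists_poly_eq (he.map _) hnil
  refine ⟨1 - (1 - t₀ ^ N) ^ N, ?_⟩
  change ι.app U' (1 - (1 - t₀ ^ N) ^ N) = e'
  rw [map_sub, map_one, map_pow, map_sub, map_one, map_pow]
  exact hN

end Groth.Agent.Lib.Stein36.Idem
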